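import Cfsg.Agent.Lib.CosetEnum.HeIdx.Data

/-!
# Checks for HeIdx
-/

set_option autoImplicit false

namespace Cfsg.Agent.Lib.CosetEnum.HeIdx

open Cfsg.Agent.Lib.CosetEnum

theorem close_chunk3 : allUpTo cert.closeOk 1713 345 = true := by decide +kernel

theorem rels_chunk0 : allUpTo cert.relOk 0 222 = true := by decide +kernel

theorem rels_chunk1 : allUpTo cert.relOk 222 222 = true := by decide +kernel

theorem rels_chunk2 : allUpTo cert.relOk 444 222 = true := by decide +kernel

end Cfsg.Agent.Lib.CosetEnum.HeIdx
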