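import Cfsg.Agent.Lib.CosetEnum.HeIdx.Data

/-!
# Checks for HeIdx
-/

set_option autoImplicit false

namespace Cfsg.Agent.Lib.CosetEnum.HeIdx

open Cfsg.Agent.Lib.CosetEnum

theorem rels_chunk7 : allUpTo cert.relOk 1554 222 = true := by decide +kernel

theorem rels_chunk8 : allUpTo cert.relOk 1776 222 = true := by decide +kernel

theorem rels_chunk9 : allUpTo cert.relOk 1998 60 = true := by decide +kernel

theorem back_chunk0 : allUpTo cert.backOk 0 2058 = true := by decide +kernel

end Cfsg.Agent.Lib.CosetEnum.HeIdx
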