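import Cfsg.Agent.Lib.CosetEnum.HeIdx.Data

/-!
# Checks for HeIdx
-/

set_option autoImplicit false

namespace Cfsg.Agent.Lib.CosetEnum.HeIdx

open Cfsg.Agent.Lib.CosetEnum

theorem imgs_chunk0 : allUpTo cert.imgOk 0 7748 = true := by decide +kernel

end Cfsg.Agent.Lib.CosetEnum.HeIdx
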