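import Cfsg.Agent.Lib.CosetEnum.Cert
import Cfsg.Agent.Lib.CosetEnum.HeIdx.Items
import Cfsg.Agent.Lib.CosetEnum.HeIdx.Slots
import Cfsg.Agent.Lib.CosetEnum.HeIdx.Defs
import Cfsg.Agent.Lib.CosetEnum.HeIdx.Tab
import Cfsg.Agent.Lib.CosetEnum.HeIdx.Nm
import Cfsg.Agent.Lib.CosetEnum.HeIdx.Img

/-!
# Certificate data for HeIdx
-/

set_option autoImplicit false

namespace Cfsg.Agent.Lib.CosetEnum.HeIdx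

open Cfsg.Agent.Lib.CosetEnum

/-- the certificate -/
def cert : CE where
  A := 7
  N := 2058
  M := 38801
  K := 7748
  inv := [0, 1, 2, 3, 4, 5, 6]
  rels := [[0, 0],
    [0, 1, 0, 1, 0, 1, 0, 1],
    [0, 2, 0, 2],
    [0, 4, 0, 4],
    [0, 5, 0, 5],
    [0, 6, 0, 6],
    [0, 3, 0, 3],
    [1, 0, 1, 0, 1, 0, 1, 0],
    [1, 1],
    [1, 2, 1, 2, 1, 2],
    [1, 4, 1, 4],
    [1, 5, 1, 5],
    [1, 6, 1, 6],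
    [1, 3, 1, 3],
    [2, 0, 2, 0],
    [2, 1, 2, 1, 2, 1],
    [2, 2],
    [2, 4, 2, 4],
    [2, 5, 2, 5],
    [2, 6, 2, 6],
    [2, 3, 2, 3, 2, 3, 2, 3, 2, 3, 2, 3, 2, 3, 2, 3, 2, 3, 2, 3],
    [4, 0, 4, 0],
    [4, 1, 4, 1],
    [4, 2, 4, 2],
    [4, 4],
    [4, 5, 4, 5],
    [4, 6, 4, 6],
    [4, 3, 4, 3, 4, 3],
    [5, 0, 5, 0],
    [5, 1, 5, 1],
    [5, 2, 5, 2],
    [5, 4, 5, 4],
    [5, 5],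
    [5, 6, 5, 6, 5, 6, 5, 6],
    [5, 3, 5, 3, 5, 3],
    [6, 0, 6, 0],
    [6, 1, 6, 1],
    [6, 2, 6, 2],
    [6, 4, 6, 4],
    [6, 5, 6, 5, 6, 5, 6, 5],
    [6, 6],
    [6, 3, 6, 3, 6, 3],
    [3, 0, 3, 0],
    [3, 1, 3, 1],
    [3, 2, 3, 2, 3, 2, 3, 2, 3, 2, 3, 2, 3, 2, 3, 2, 3, 2, 3, 2],
    [3, 4, 3, 4, 3, 4],
    [3, 5, 3, 5, 3, 5],
    [3, 6, 3, 6, 3, 6],
    [3, 3],
    [4, 6, 5, 6, 5],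
    [4, 2, 1, 0, 2, 1, 0, 2, 1, 0],
    [0, 3, 2, 3, 2, 3, 2, 3, 2, 3, 2],
    [2, 3, 5, 6, 2, 3, 5, 6, 2, 3, 5, 6, 2, 3, 5, 6]]
  subs := [[0],
    [2],
    [3],
    [4],
    [5],
    [0, 1, 0, 1],
    [1, 2, 3, 4, 1, 2, 3, 4, 1, 2, 3, 4, 1, 2, 3, 4, 1, 2, 3, 4, 1, 2, 3, 4, 1, 2, 3, 4]]
  items := items
  slots := slots
  defs := defs
  tab := tab
  nm := nm
  img := img

end Cfsg.Agent.Lib.CosetEnum.HeIdx
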